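import Groth.Agent.Lib.ExtFil4.Main
import Groth.Agent.Lib.ExtFil4.Uniq
import Groth.Agent.Lib.P1Split17.Basis
import Mathlib.LinearAlgebra.ExteriorPower.Basis

/-!
The top exterior power of an extension of locally free modules.
-/

set_option autoImplicit false
set_option linter.style.haveILetI false
set_option backward.isDefEq.respectTransparency false
set_option backward.isDefEq.respectTransparency.types false
set_option maxHeartbeats 800000

universe u

open CategoryTheory Limits AlgebraicGeometry Opposite TopologicalSpace TensorProduct exteriorPower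

namespace Groth.Agent.DetSES2

open ExtFil4
open KoszShH13 (appLin IsAffBasis exists_glue)

/-- Exterior powers above the rank vanish. -/
theorem subsingleton_exterior {A M : Type u} [CommRing A] [AddCommGroup M] [Module A M] {p k : ℕ}
    (b : Module.Basis (Fin p) A M) (h : p < k) : Subsingleton (⋀[A]^k M) := by
  haveI : IsEmpty (Set.powersetCard (Fin p) k) := ⟨fun s => by
    have h1 : (s : Finset (Fin p)).card = k := s.2
    have h2 := Finset.card_le_univ (s : Finset (Fin p))
    rw [Fintype.card_fin] at h2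
    omega⟩
  exact (b.exteriorPower k).repr.toEquiv.subsingleton

section Alg

variable {A E' E E'' : Type u} [CommRing A] [AddCommGroup E'] [Module A E'] [AddCommGroup E] [Module A E]
  [AddCommGroup E''] [Module A E''] {f : E' →ₗ[A] E} {g : E →ₗ[A] E''} (r : E →ₗ[A] E') (s : E'' →ₗ[A] E)
  (hgf : ∀ x, g (f x) = 0) (hr : ∀ x, r (f x) = x) (hs : ∀ y, g (s y) = y)
  (hk : ∀ x, g x = 0 → x ∈ LinearMap.range f) {p q n : ℕ} (b' : Module.Basis (Fin p) A E')
  (b'' : Module.Basis (Fin q) A E'') (hn : p + q = n)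

include hgf hr hs hk b' b'' hn

theorem mem_Fil_step {k : ℕ} (hk' : k ≤ n) (hne : k ≠ p) {x : ⋀[A]^n E} (hx : x ∈ Fil f n k) :
    x ∈ Fil f n (k + 1) := by
  have hkn : k + (n - k) = n := Nat.add_sub_of_le hk'
  haveI : Subsingleton (⋀[A]^k E' ⊗[A] ⋀[A]^(n - k) E'') := by
    rcases lt_or_gt_of_ne hne with hlt | hgt
    · haveI := subsingleton_exterior b'' (show q < n - k by omega)
      infer_instance
    · haveI := subsingleton_exterior b' hgt
      infer_instance
  exact (mem_Fil_succ_iff r hgf s hkn hr hs hk hx).2 (Subsingleton.elim _ _)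

theorem mem_Fil_top (x : ⋀[A]^n E) : x ∈ Fil f n p := by
  suffices ∀ k, k ≤ p → x ∈ Fil f n k from this p le_rfl
  intro k
  induction k with
  | zero => exact fun _ => by rw [Fil_zero]; trivial
  | succ k ih => exact fun h => mem_Fil_step r s hgf hr hs hk b' b'' hn (by omega) (by omega) (ih (by omega))

theorem bijective_delta : Function.Bijective (delta r g hn) := by
  refine ⟨(injective_iff_map_eq_zero _).2 fun x hx => ?_, fun t => ⟨_, delta_sigma r hgf s hn hr hs t⟩⟩
  have h1 : x ∈ Fil f n (p + 1) :=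
    (mem_Fil_succ_iff r hgf s hn hr hs hk (mem_Fil_top r s hgf hr hs hk b' b'' hn x)).2 hx
  have h2 : ∀ k, p + 1 ≤ k → k ≤ n + 1 → x ∈ Fil f n k := by
    intro k hk1
    induction k, hk1 using Nat.le_induction with
    | base => exact fun _ => h1
    | succ k hpk ih => exact fun h => mem_Fil_step r s hgf hr hs hk b' b'' hn (by omega) (by omega) (ih (by omega))
  have h3 := h2 (n + 1) (by omega) le_rfl
  rwa [Fil_of_lt f (Nat.lt_succ_self n), Submodule.mem_bot] at h3

end Alg

variable {X : Scheme.{u}}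

/-- A basis on an open gives a basis of its sections. -/
theorem nonempty_basis' {M : X.Modules} {U D : X.Opens} (hUD : U ≤ D) {n : ℕ} {e : Fin n → Γ(M, D)}
    (he : P1Split.IsBas M D e) : Nonempty (Module.Basis (Fin n) Γ(X, U) Γ(M, U)) := by
  let L : (Fin n → Γ(X, U)) →ₗ[Γ(X, U)] Γ(M, U) := Fintype.linearCombination Γ(X, U) fun i => M1.mres M hUD (e i)
  exact ⟨Module.Basis.ofEquivFun (LinearEquiv.ofBijective L (he U hUD)).symm⟩

/-- `det E = det E' ⊗ det E''` for an extension of locally free modules. -/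
theorem nonempty_det_iso (S : ShortComplex X.Modules) (hS : S.ShortExact) {p q n : ℕ} (hn : p + q = n)
    (h₁ : FlatMod.IsFinLocFreeOfRank p S.X₁) (h₂ : FlatMod.IsFinLocFree S.X₂) (h₃ : FlatMod.IsFinLocFreeOfRank q S.X₃)
    {L' L L'' : X.Modules} (hL' : ExtPow.IsExtPow p S.X₁ L') (hL : ExtPow.IsExtPow n S.X₂ L)
    (hL'' : ExtPow.IsExtPow q S.X₃ L'') (hL'f : FlatMod.IsFinLocFree L') (hL''f : FlatMod.IsFinLocFree L'') :
    Nonempty (L ≅ CohB1.tensorMod L' L'') := by
  obtain ⟨φ', hφ'⟩ := exists_phi hL'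
  obtain ⟨φ, hφ⟩ := exists_phi hL
  obtain ⟨φ'', hφ''⟩ := exists_phi hL''
  let T := CohB1.tensorMod L' L''
  let P : X.affineOpens → Prop := fun U => Nonempty (Module.Basis (Fin p) Γ(X, U.1) Γ(S.X₁, U.1)) ∧
    Nonempty (Module.Basis (Fin q) Γ(X, U.1) Γ(S.X₃, U.1))
  have hP : IsAffBasis P := by
    intro O x hx
    obtain ⟨D₁, e₁, hx₁, he₁⟩ := P1Split.exists_isBas_nhd h₁ x
    obtain ⟨D₃, e₃, hx₃, he₃⟩ := P1Split.exists_isBas_nhd h₃ x
    obtain ⟨V, hV, hxV, hVle⟩ := exists_isAffineOpen_mem_and_subset (U := O ⊓ (D₁ ⊓ D₃)) (x := x) ⟨hx, hx₁, hx₃⟩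
    have h : V ≤ O ⊓ (D₁ ⊓ D₃) := hVle
    exact ⟨⟨V, hV⟩, ⟨nonempty_basis' (h.trans (inf_le_right.trans inf_le_left)) he₁,
      nonempty_basis' (h.trans (inf_le_right.trans inf_le_right)) he₃⟩, hxV, h.trans inf_le_left⟩
  have hq₃ : Coh.IsQCoh S.X₃ := M2.isQCoh_of_isFinLocFree fun x => by
    obtain ⟨U, hxU, hU⟩ := h₃ x; exact ⟨U, q, hxU, hU⟩
  have hb := bijective_tens φ' φ'' (M2.isQCoh_of_isFinLocFree hL'f) (M2.isQCoh_of_isFinLocFree hL''f)
  let sp : ∀ U, P U → Split S U.1 := fun U hU =>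
    (nonempty_split hS (M2.isQCoh_of_isFinLocFree h₂) hq₃ U (Module.Free.of_basis hU.2.some)).some
  let fam : ∀ U, P U → (Γ(L, U.1) →ₗ[Γ(X, U.1)] Γ(T, U.1)) := fun U hU =>
    (tens φ' φ'' U).comp ((delta (sp U hU).r (appLin S.g U.1) hn).comp (φ U).toLinearMap)
  have hbij : ∀ U hU, Function.Bijective (fam U hU) := fun U hU =>
    (hb U).comp ((bijective_delta (sp U hU).r (sp U hU).s (hgf S U.1) (sp U hU).hr (sp U hU).hs (hker hS U.1)
      hU.1.some hU.2.some hn).comp (φ U).bijective)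
  obtain ⟨π, hπ⟩ := exists_glue hP (fun U hU => (fam U hU).toAddMonoidHom)
    (fun U hU c m => (fam U hU).map_smul c m) (fun U hU V hV h m => by
      show M1.mres T h (tens φ' φ'' U (delta (sp U hU).r (appLin S.g U.1) hn (φ U m))) =
        tens φ' φ'' V (delta (sp V hV).r (appLin S.g V.1) hn (φ V (M1.mres L h m)))
      let eV := LinearEquiv.ofBijective (tens φ' φ'' V) (hb V)
      let τ := eV.symm.toLinearMap.toAddMonoidHom.comp
        ((AddCommGrpCat.Hom.hom (M1.mres T h)).comp (tens φ' φ'' U).toAddMonoidHom)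
      have hτ' : ∀ x, tens φ' φ'' V (τ x) = M1.mres T h (tens φ' φ'' U x) := fun x => eV.apply_symm_apply _
      have key := map_delta (sp U hU).r (g := appLin S.g U.1) (f := appLin S.f U.1) (hgf S U.1) (hgf S V.1) (sp V hV).r
        (sp U hU).hr (sp V hV).hr hn (M1.ores h).hom (M1.mres S.X₁ h) (M1.mres S.X₂ h) (M1.mres S.X₃ h)
        (fun x => (M1.map_app_eq S.f h x).symm) (fun x => (M1.map_app_eq S.g h x).symm)
        (rho φ U V h) (rho_smul φ U V h)
        (fun v => by
          rw [rho_apply, hφ U V h v, LinearEquiv.apply_symm_apply])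
        τ (fun c x => (hb V).1 (by rw [hτ', map_smul, res_smul, map_smul, hτ']))
        (fun a b => (hb V).1 (by rw [hτ']; exact res_tens φ' φ'' hφ' hφ'' U V h a b))
        (mem_Fil_top (sp U hU).r (sp U hU).s (hgf S U.1) (sp U hU).hr (sp U hU).hs (hker hS U.1) hU.1.some hU.2.some hn (φ U m))
      rw [← hτ', key]
      refine congrArg (fun z => tens φ' φ'' V (delta (sp V hV).r (appLin S.g V.1) hn z)) ?_
      rw [rho_apply, LinearEquiv.symm_apply_apply])
  haveI : IsIso π := (M1.isIso_iff_stalk π).2 fun x =>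
    KoszShH13.bijective_stalk_of_basis hP π x fun U hU _ => by
      convert hbij U hU using 1
      exact funext fun m => hπ U hU m
  exact ⟨asIso π⟩

end Groth.Agent.DetSES2
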