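import Groth.Agent.Lib.DetSES2.Exist
import Groth.Agent.Lib.BlowKoszul2.Conormal
import Groth.Agent.Lib.CurveCoh17.Bases
import Groth.Agent.Lib.ResDesc11.Basic

/-!
An extension of finite locally free modules is finite locally free.
-/

set_option autoImplicit false
set_option linter.style.haveILetI false
set_option backward.isDefEq.respectTransparency false
set_option backward.isDefEq.respectTransparency.types false
set_option maxHeartbeats 800000

universe u

open CategoryTheory Limits AlgebraicGeometry Opposite TopologicalSpace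

namespace Groth.Agent.DetSES2

open ExtFil4
open KoszShH13 (appLin)

variable {X : Scheme.{u}}

/-- An extension of finite locally free modules is finite locally free. -/
theorem isFinLocFreeOfRank_middle (S : ShortComplex X.Modules) (hS : S.ShortExact) (h₂ : Coh.IsQCoh S.X₂) {p q : ℕ}
    (h₁ : FlatMod.IsFinLocFreeOfRank p S.X₁) (h₃ : FlatMod.IsFinLocFreeOfRank q S.X₃) :
    FlatMod.IsFinLocFreeOfRank (p + q) S.X₂ := by
  intro x
  obtain ⟨D₁, e₁, hx₁, he₁⟩ := P1Split.exists_isBas_nhd h₁ x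
  obtain ⟨D₃, e₃, hx₃, he₃⟩ := P1Split.exists_isBas_nhd h₃ x
  obtain ⟨V, hV, hxV, hVle⟩ := exists_isAffineOpen_mem_and_subset (U := D₁ ⊓ D₃) (x := x) ⟨hx₁, hx₃⟩
  have h : V ≤ D₁ ⊓ D₃ := hVle
  obtain ⟨b₁⟩ := nonempty_basis' (h.trans inf_le_left) he₁
  obtain ⟨b₃⟩ := nonempty_basis' (h.trans inf_le_right) he₃
  have hq₃ : Coh.IsQCoh S.X₃ := M2.isQCoh_of_isFinLocFree fun y => by
    obtain ⟨U, hyU, hU⟩ := h₃ y; exact ⟨U, q, hyU, hU⟩
  obtain ⟨sp⟩ := nonempty_split hS h₂ hq₃ ⟨V, hV⟩ (Module.Free.of_basis b₃)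
  have hex : Function.Exact (appLin S.f V) (appLin S.g V) := fun y => by
    refine ⟨fun hy => hker hS V y hy, ?_⟩
    rintro ⟨a, rfl⟩
    exact hgf S V a
  have hinj : Function.Injective (appLin S.f V) := fun a b hab => by
    rw [← sp.hr a, ← sp.hr b, hab]
  let e := (hex.splitSurjectiveEquiv hinj ⟨sp.s, LinearMap.ext sp.hs⟩).1
  let b := ((b₁.prod b₃).map e.symm).reindex finSumFinEquiv
  exact ⟨V, hxV, ResDesc11.nonempty_restrict_iso_free (BlowKoszul2.isBas_of_basis h₂ hV b)⟩

end Groth.Agent.DetSES2
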