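import Groth.Agent.Lib.DetSES2.Main
import Groth.Agent.Lib.Wedge2.Basic

/-!
The tensor product of the top exterior powers of the ends of an extension is a top exterior power of the middle.
-/

set_option autoImplicit false
set_option linter.style.haveILetI false
set_option backward.isDefEq.respectTransparency false
set_option backward.isDefEq.respectTransparency.types false
set_option maxHeartbeats 800000

universe u

open CategoryTheory Limits AlgebraicGeometry Opposite TopologicalSpace TensorProduct exteriorPower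

namespace Groth.Agent.DetSES2

open ExtFil4
open KoszShH13 (appLin IsAffBasis)

variable {X : Scheme.{u}}

/-- `det E' ⊗ det E''` is an exterior power of `E` of degree the rank. -/
theorem isExtPow_tensor_middle (S : ShortComplex X.Modules) (hS : S.ShortExact) {p q n : ℕ} (hn : p + q = n)
    (h₁ : FlatMod.IsFinLocFreeOfRank p S.X₁) (h₂ : FlatMod.IsFinLocFree S.X₂) (h₃ : FlatMod.IsFinLocFreeOfRank q S.X₃)
    {L' L'' : X.Modules} (hL' : ExtPow.IsExtPow p S.X₁ L') (hL'' : ExtPow.IsExtPow q S.X₃ L'')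
    (hL'f : FlatMod.IsFinLocFree L') (hL''f : FlatMod.IsFinLocFree L'') :
    ExtPow.IsExtPow n S.X₂ (CohB1.tensorMod L' L'') := by
  obtain ⟨φ', hφ'⟩ := exists_phi hL'
  obtain ⟨φ'', hφ''⟩ := exists_phi hL''
  let T := CohB1.tensorMod L' L''
  let P : X.affineOpens → Prop := fun U => Nonempty (Module.Basis (Fin p) Γ(X, U.1) Γ(S.X₁, U.1)) ∧
    Nonempty (Module.Basis (Fin q) Γ(X, U.1) Γ(S.X₃, U.1))
  have hP : IsAffBasis P := by
    intro O x hx
    obtain ⟨D₁, e₁, hx₁, he₁⟩ := P1Split.exists_isBas_nhd h₁ x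
    obtain ⟨D₃, e₃, hx₃, he₃⟩ := P1Split.exists_isBas_nhd h₃ x
    obtain ⟨V, hV, hxV, hVle⟩ := exists_isAffineOpen_mem_and_subset (U := O ⊓ (D₁ ⊓ D₃)) (x := x) ⟨hx, hx₁, hx₃⟩
    have h : V ≤ O ⊓ (D₁ ⊓ D₃) := hVle
    exact ⟨⟨V, hV⟩, ⟨nonempty_basis' (h.trans (inf_le_right.trans inf_le_left)) he₁,
      nonempty_basis' (h.trans (inf_le_right.trans inf_le_right)) he₃⟩, hxV, h.trans inf_le_left⟩
  have hq₂ : Coh.IsQCoh S.X₂ := M2.isQCoh_of_isFinLocFree h₂
  have hq₃ : Coh.IsQCoh S.X₃ := M2.isQCoh_of_isFinLocFree fun x => by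
    obtain ⟨U, hxU, hU⟩ := h₃ x; exact ⟨U, q, hxU, hU⟩
  have hb := bijective_tens φ' φ'' (M2.isQCoh_of_isFinLocFree hL'f) (M2.isQCoh_of_isFinLocFree hL''f)
  let sp : ∀ U, P U → Split S U.1 := fun U hU =>
    (nonempty_split hS hq₂ hq₃ U (Module.Free.of_basis hU.2.some)).some
  refine Wedge2.isExtPow_of_basis hP hq₂ (M2.isQCoh_of_isFinLocFree (M2.isFinLocFree_tensor hL'f hL''f))
    (fun U hU => (tens φ' φ'' U).comp (delta (sp U hU).r (appLin S.g U.1) hn))
    (fun U hU => (hb U).comp (bijective_delta (sp U hU).r (sp U hU).s (hgf S U.1) (sp U hU).hr (sp U hU).hs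
      (hker hS U.1) hU.1.some hU.2.some hn)) fun U hU V hV h e => ?_
  letI := Wedge2.resAlg h
  letI := Wedge2.resModule S.X₂ h
  haveI := Wedge2.resTower S.X₂ h
  let eV := LinearEquiv.ofBijective (tens φ' φ'' V) (hb V)
  let τ := eV.symm.toLinearMap.toAddMonoidHom.comp
    ((AddCommGrpCat.Hom.hom (M1.mres T h)).comp (tens φ' φ'' U).toAddMonoidHom)
  have hτ' : ∀ x, tens φ' φ'' V (τ x) = M1.mres T h (tens φ' φ'' U x) := fun x => eV.apply_symm_apply _
  have key := map_delta (sp U hU).r (g := appLin S.g U.1) (f := appLin S.f U.1) (hgf S U.1) (hgf S V.1) (sp V hV).r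
    (sp U hU).hr (sp V hV).hr hn (M1.ores h).hom (M1.mres S.X₁ h) (M1.mres S.X₂ h) (M1.mres S.X₃ h)
    (fun x => (M1.map_app_eq S.f h x).symm) (fun x => (M1.map_app_eq S.g h x).symm)
    (Wedge2.tau (B := Γ(X, V.1)) (Wedge2.resLin S.X₂ h) n).toAddMonoidHom
    (fun c x => by
      show Wedge2.tau (B := Γ(X, V.1)) (Wedge2.resLin S.X₂ h) n (c • x) = _
      rw [map_smul]
      exact (algebraMap_smul Γ(X, V.1) c _).symm)
    (fun v => Wedge2.tau_ιMulti (Wedge2.resLin S.X₂ h) v)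
    τ (fun c x => (hb V).1 (by rw [hτ', map_smul, res_smul, map_smul, hτ']))
    (fun a b => (hb V).1 (by rw [hτ']; exact res_tens φ' φ'' hφ' hφ'' U V h a b))
    (mem_Fil_top (sp U hU).r (sp U hU).s (hgf S U.1) (sp U hU).hr (sp U hU).hs (hker hS U.1) hU.1.some hU.2.some hn
      (ιMulti _ n e))
  show M1.mres T h (tens φ' φ'' U (delta (sp U hU).r (appLin S.g U.1) hn (ιMulti _ n e))) =
    tens φ' φ'' V (delta (sp V hV).r (appLin S.g V.1) hn (ιMulti _ n fun j => M1.mres S.X₂ h (e j)))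
  rw [← hτ', key]
  exact congrArg (fun z => tens φ' φ'' V (delta (sp V hV).r (appLin S.g V.1) hn z))
    (Wedge2.tau_ιMulti (Wedge2.resLin S.X₂ h) e)

end Groth.Agent.DetSES2
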